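import Cfsg.Agent.H938.EPK.F4Seven
import Cfsg.Agent.H938.EPK.F4XVal
import Cfsg.Agent.H523.EPX.KSeven
import Cfsg.Agent.H894.EK.Rows
import Cfsg.Agent.S0280
import Cfsg.Agent.S1074
import Cfsg.Agent.H938.EPK.SzSq
import Cfsg.Agent.H896.EPX.ASixKill
import Cfsg.Agent.H523.EPX.AdjF4
import Cfsg.Agent.H783.EX.Rank

/-!
# S5745, CrossK: the rows `U₃(3)²` in `F₄(2)`, `J₂²` and `²F₄(2)'²` in `F₄(4)` (helper938)
-/

set_option autoImplicit false

namespace Cfsg.Agent.H938.EPK.RowsF4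

open Cfsg Cfsg.Agent.OrdDiv Cfsg.Agent.H209.EPX Cfsg.Agent.H542.EPX Cfsg.Agent.H894.EK Cfsg.Agent.H357.EP

variable {F : Type} [Field F] [Fintype F]

theorem u33 (hq : Fintype.card F = 2) : Row (Nm (.psu 3 3)) ↥(Lie.chevF4.group F) 2 := by
  intro H N T _ e h hT
  refine Cfsg.Agent.H523.EPX.k_u33 h le_rfl ?_ fun x hx => (F4W.cent7_two hq hx).trans (by norm_num)
  obtain ⟨K, _, _, hK, ⟨i⟩⟩ := hT
  have h1 := Cfsg.Agent.S0280.result (F := K) (q := 3) hK 3 (by norm_num)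
  norm_num [Finset.prod_range_succ, Nat.even_iff] at h1
  rw [Nat.card_congr i.toEquiv]
  omega

theorem j2 (hq : Fintype.card F = 4) : Row (Nm .j2) ↥(Lie.chevF4.group F) 2 := by
  intro H N T _ e h hT
  exact Cfsg.Agent.H523.EPX.k_j2' h le_rfl hT fun x hx => (F4W.cent7_four hq hx).trans (by norm_num)

theorem tits (hq : Fintype.card F = 4) : Row (Nm .tits) ↥(Lie.chevF4.group F) 2 := by
  intro H N T _ e h hT
  refine Cfsg.Agent.H523.EPX.k_tits h le_rfl ?_ fun x hx => (F4X.cent13_four hq hx).trans (by norm_num)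
  obtain ⟨i⟩ := hT
  exact (Nat.card_congr i.toEquiv).trans (S1074.result.2.2.2.trans (by norm_num))

theorem a7 (hq : Fintype.card F = 2) : Row (Nm (.alt 7)) ↥(Lie.chevF4.group F) 2 := by
  intro H N T _ e h hT
  obtain ⟨i⟩ := hT
  have hc : Nat.card T = 2520 := by
    rw [Nat.card_congr i.toEquiv, nat_card_alternatingGroup, Nat.card_fin]
    rfl
  exact Cfsg.Agent.H523.EPX.f4_two_57 h le_rfl (Nat.card_eq_fintype_card.trans hq) (by rw [hc]; norm_num)
    (by rw [hc]; norm_num)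

theorem sz8 (hq : Fintype.card F = 3) : Row (Nm (.sz 8)) ↥(Lie.chevF4.group F) 2 := by
  intro H N T _ e h hT
  obtain ⟨K, _, _, m, hm, hK, hm2, ⟨i⟩⟩ := hT
  have hs : Lie.IsoSuzuki T := ⟨K, inferInstance, inferInstance, m, hm, hK.trans hm2, ⟨i⟩⟩
  have hG : InE6 ↥(Lie.chevF4.group F) := Cfsg.Agent.H783.EX.inE6_f4 (by rw [hq]; decide) (MulEquiv.refl _)
  have h1 := hG.mono (N.subtype.comp e.symm.toMonoidHom) (N.subtype_injective.comp e.symm.injective)
  exact not_inE6_sz_pow hs le_rfl h1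

/-- **the rows of `F₄(q)`, `k = 2`** -/
theorem rowsF4 : RowsF4 F where
  a6 _ := fun _ _ _ _ _ h hT => Cfsg.Agent.H896.EPX.f4_aSix h hT.some
  u33 := u33
  a7 := a7
  sz8 := sz8
  j2 := j2
  tits := tits

end Cfsg.Agent.H938.EPK.RowsF4
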